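import Mathlib.RingTheory.KrullDimension.Basic
import Mathlib.RingTheory.Localization.Ideal
import Mathlib.RingTheory.Nilpotent.Lemmas
import Mathlib.RingTheory.Ideal.MinimalPrime.Localization
import Mathlib.RingTheory.Spectrum.Prime.RingHom
import Mathlib.RingTheory.Spectrum.Prime.Topology

/-!
# Radicals of finitely generated ideals and monomials in rings of bounded dimension

Two elementary facts about a commutative ring all of whose chains of primes have length `< n`:
Kronecker's theorem that `n + 1` elements may be replaced by `n` up to radical, and the fact that some power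
of the product of `n` elements lies in the ideal of their next powers.
-/

set_option autoImplicit false
set_option linter.style.haveILetI false
universe u

namespace Groth.ModEtQCoh.DimVanish

open PrimeSpectrum

variable {A : Type u} [CommRing A]

theorem subsingleton_of_series (h : ∀ l : LTSeries (PrimeSpectrum A), l.length < 0) : Subsingleton A := by
  by_contra hA
  haveI : Nontrivial A := not_subsingleton_iff_nontrivial.1 hA
  exact Nat.not_lt_zero _ (h (RelSeries.singleton _ (Classical.arbitrary (PrimeSpectrum A))))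

/-- Chains of primes in a quotient by an ideal outside all minimal primes are shorter. -/
theorem series_quotient {n : ℕ} (h : ∀ l : LTSeries (PrimeSpectrum A), l.length < n + 1) (I : Ideal A)
    (hI : ∀ p ∈ minimalPrimes A, ¬ I ≤ p) (l : LTSeries (PrimeSpectrum (A ⧸ I))) : l.length < n := by
  let c := PrimeSpectrum.comap (Ideal.Quotient.mk I)
  have hc : StrictMono c := fun p q hpq => by
    refine lt_of_le_of_ne (Ideal.comap_mono hpq.le) fun e => hpq.ne ?_
    exact PrimeSpectrum.comap_injective_of_surjective _ Ideal.Quotient.mk_surjective e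
  let l' := l.map c hc
  obtain ⟨m, hm, hle⟩ := Ideal.exists_minimalPrimes_le (I := (⊥ : Ideal A)) (J := l'.head.asIdeal) bot_le
  let m' : PrimeSpectrum A := ⟨m, hm.1.1⟩
  have hIc : I ≤ l'.head.asIdeal := fun y hy => by
    show Ideal.Quotient.mk I y ∈ l.head.asIdeal
    rw [Ideal.Quotient.eq_zero_iff_mem.2 hy]
    exact zero_mem _
  have hlt : m' < l'.head := lt_of_le_of_ne hle fun e => hI m hm (hIc.trans (congrArg PrimeSpectrum.asIdeal e).ge)
  have := h (l'.cons m' hlt)
  simp only [RelSeries.cons_length] at this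
  exact Nat.lt_of_succ_lt_succ this

/-- Kronecker's theorem. -/
theorem exists_mem_radical : ∀ (n : ℕ) {A : Type u} [CommRing A], (∀ l : LTSeries (PrimeSpectrum A), l.length < n) →
    ∀ (a : A) (b : Fin n → A), ∃ x : Fin n → A, a ∈ (Ideal.span (Set.range fun i => b i + a * x i)).radical
  | 0, A, _, h, a, b => ⟨fun i => i.elim0, by
      haveI := subsingleton_of_series h
      rw [Subsingleton.elim a 0]
      exact zero_mem _⟩
  | n + 1, A, _, h, a, b => by
    let J : Ideal A :=
      { carrier := {y | IsNilpotent (y * b 0)}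
        add_mem' := fun {y z} hy hz => by
          show IsNilpotent ((y + z) * b 0)
          rw [add_mul]
          exact Commute.isNilpotent_add (Commute.all _ _) hy hz
        zero_mem' := by
          show IsNilpotent ((0 : A) * b 0)
          rw [zero_mul]
          exact IsNilpotent.zero
        smul_mem' := fun r y hy => by
          show IsNilpotent (r * y * b 0)
          rw [mul_assoc]
          exact Commute.isNilpotent_mul_left (Commute.all _ _) hy }
    let I : Ideal A := Ideal.span {b 0} ⊔ J
    have hI : ∀ p ∈ minimalPrimes A, ¬ I ≤ p := fun p hp hle => by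
      have hb : b 0 ∈ p := hle (Ideal.mem_sup_left (Ideal.subset_span rfl))
      haveI := hp.1.1
      obtain ⟨y, hy, hyn⟩ : ∃ y ∉ p, IsNilpotent (y * b 0) := by
        by_contra hne
        have hd : Disjoint ((⊥ : Ideal A) : Set A) (p.primeCompl ⊔ Submonoid.powers (b 0) : Submonoid A) := by
          refine Set.disjoint_left.2 fun z hz hz' => ?_
          obtain ⟨y, hy, w, ⟨k, rfl⟩, rfl⟩ := Submonoid.mem_sup.1 hz'
          have hz0 : y * b 0 ^ k = 0 := hz
          refine hne ⟨y, hy, k + 1, ?_⟩
          calc (y * b 0) ^ (k + 1) = y ^ k * b 0 * (y * b 0 ^ k) := by ring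
            _ = 0 := by rw [hz0, mul_zero]
        obtain ⟨P, hP, -, hPd⟩ := Ideal.exists_le_prime_disjoint (⊥ : Ideal A) _ hd
        have hPp : P ≤ p := fun z hz => by
          by_contra hzp
          exact Set.disjoint_left.1 hPd hz (show z ∈ p.primeCompl ⊔ Submonoid.powers (b 0) from Submonoid.mem_sup_left hzp)
        exact Set.disjoint_left.1 hPd (hp.2 ⟨hP, bot_le⟩ hPp hb)
          (show b 0 ∈ p.primeCompl ⊔ Submonoid.powers (b 0) from Submonoid.mem_sup_right (Submonoid.mem_powers _))
      exact hy (hle (Ideal.mem_sup_right (show IsNilpotent (y * b 0) from hyn)))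
    obtain ⟨x', hx'⟩ := exists_mem_radical n (series_quotient h I hI) (Ideal.Quotient.mk I a)
      fun i => Ideal.Quotient.mk I (b i.succ)
    choose x hx using fun i => Ideal.Quotient.mk_surjective (x' i)
    obtain ⟨N, hN⟩ := hx'
    let K : Ideal A := Ideal.span (Set.range fun i : Fin n => b i.succ + a * x i)
    have hN' : a ^ N ∈ I ⊔ K := by
      have hmap : Ideal.span (Set.range fun i => Ideal.Quotient.mk I (b i.succ) + Ideal.Quotient.mk I a * x' i) =
          K.map (Ideal.Quotient.mk I) := by
        rw [Ideal.map_span, ← Set.range_comp]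
        congr 1
        congr 1
        funext i
        simp [← hx i]
      rw [hmap, ← map_pow, ← Ideal.mem_comap, Ideal.comap_map_of_surjective _ Ideal.Quotient.mk_surjective] at hN
      rw [sup_comm]
      have hker : Ideal.comap (Ideal.Quotient.mk I) ⊥ = I := Ideal.mk_ker
      rwa [hker] at hN
    obtain ⟨i, hi, k, hk, e⟩ := Submodule.mem_sup.1 hN'
    obtain ⟨c, hc, y, hy, e'⟩ := Submodule.mem_sup.1 hi
    refine ⟨Fin.cons y x, ?_⟩
    let T : Ideal A := Ideal.span (Set.range fun i => b i + a * (Fin.cons y x : Fin (n + 1) → A) i)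
    have hb0 : b 0 + a * y ∈ T := Ideal.subset_span ⟨0, by simp⟩
    have hKT : K ≤ T := Ideal.span_le.2 (by
      rintro _ ⟨i, rfl⟩
      exact Ideal.subset_span ⟨i.succ, by simp⟩)
    have hnil : a * y * b 0 ∈ T.radical := by
      obtain ⟨m, hm⟩ := (show IsNilpotent (y * b 0) from hy)
      exact ⟨m, by rw [mul_assoc, mul_pow, hm, mul_zero]; exact zero_mem _⟩
    have hb : b 0 ∈ T.radical := by
      refine T.radical_isRadical ⟨2, ?_⟩
      have : b 0 ^ 2 = b 0 * (b 0 + a * y) - a * y * b 0 := by ring
      rw [this]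
      exact sub_mem (Ideal.le_radical (Ideal.mul_mem_left _ _ hb0)) hnil
    have hay : a * y ∈ T.radical := by
      have : a * y = (b 0 + a * y) - b 0 := by ring
      rw [this]
      exact sub_mem (Ideal.le_radical hb0) hb
    have ha : a ^ (N + 1) ∈ T.radical := by
      obtain ⟨r, rfl⟩ := Ideal.mem_span_singleton'.1 hc
      have : a ^ (N + 1) = (a * r) * b 0 + a * y + a * k := by rw [pow_succ', ← e, ← e']; ring
      rw [this]
      exact add_mem (add_mem (Ideal.mul_mem_left _ _ hb) hay) (Ideal.le_radical (Ideal.mul_mem_left _ _ (hKT hk)))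
    exact T.radical_isRadical ⟨N + 1, ha⟩

/-- A power of the product lies in the ideal of the next powers. -/
theorem exists_prod_pow_mem : ∀ (n : ℕ) {A : Type u} [CommRing A], (∀ l : LTSeries (PrimeSpectrum A), l.length < n) →
    ∀ x : Fin n → A, ∃ N : ℕ, (∏ i, x i) ^ N ∈ Ideal.span (Set.range fun i => x i ^ (N + 1))
  | 0, A, _, h, x => ⟨0, by
      haveI := subsingleton_of_series h
      rw [Subsingleton.elim ((∏ i, x i) ^ 0) 0]
      exact zero_mem _⟩
  | n + 1, A, _, h, x => by
    let M : Submonoid A :=
      { carrier := {y | ∃ (m : ℕ) (a : A), y = x 0 ^ m * (1 + a * x 0)}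
        one_mem' := ⟨0, 0, by simp⟩
        mul_mem' := fun {y z} hy hz => by
          obtain ⟨m, a, rfl⟩ := hy
          obtain ⟨k, b, rfl⟩ := hz
          exact ⟨m + k, a + b + a * b * x 0, by ring⟩ }
    let B := Localization M
    have hB : ∀ l : LTSeries (PrimeSpectrum B), l.length < n := fun l => by
      let c := PrimeSpectrum.comap (algebraMap A B)
      have hc : StrictMono c := fun p q hpq => by
        refine lt_of_le_of_ne (Ideal.comap_mono hpq.le) fun e => hpq.ne ?_
        exact PrimeSpectrum.localization_comap_injective B M e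
      let l' := l.map c hc
      have hdis : ∀ y ∈ M, y ∉ l'.last.asIdeal := fun y hy hyp =>
        l.last.isPrime.ne_top (Ideal.eq_top_of_isUnit_mem _ hyp (IsLocalization.map_units B ⟨y, hy⟩))
      have hne : l'.last.asIdeal ⊔ Ideal.span {x 0} ≠ ⊤ := fun e => by
        obtain ⟨p, hp, q, hq, hpq⟩ := Submodule.mem_sup.1 (e.symm ▸ Submodule.mem_top (x := (1 : A)))
        obtain ⟨r, rfl⟩ := Ideal.mem_span_singleton'.1 hq
        exact hdis p ⟨0, -r, by rw [← hpq]; ring⟩ hp
      obtain ⟨m, hm, hle⟩ := Ideal.exists_le_maximal _ hne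
      have hlt : l'.last < (⟨m, hm.isPrime⟩ : PrimeSpectrum A) :=
        lt_of_le_of_ne (le_sup_left.trans hle) fun e =>
          hdis (x 0) ⟨1, 0, by simp⟩ ((congrArg PrimeSpectrum.asIdeal e).ge (hle (Ideal.mem_sup_right (Ideal.subset_span rfl))))
      have := h (l'.snoc _ hlt)
      simp only [RelSeries.snoc_length] at this
      exact Nat.lt_of_succ_lt_succ this
    obtain ⟨N, hN⟩ := exists_prod_pow_mem n hB fun i => algebraMap A B (x i.succ)
    let P : A := ∏ i : Fin n, x i.succ
    let I : Ideal A := Ideal.span (Set.range fun i : Fin n => x i.succ ^ (N + 1))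
    have hN' : algebraMap A B (P ^ N) ∈ I.map (algebraMap A B) := by
      rw [Ideal.map_span, ← Set.range_comp, map_pow, map_prod]
      simpa [Function.comp_def] using hN
    obtain ⟨⟨⟨w, hw⟩, s⟩, e⟩ := (IsLocalization.mem_map_algebraMap_iff M B).1 hN'
    rw [← map_mul] at e
    obtain ⟨t, e'⟩ := (IsLocalization.eq_iff_exists M B).1 e
    obtain ⟨m, a, hma⟩ := M.mul_mem t.2 s.2
    have h1 : x 0 ^ m * (1 + a * x 0) * P ^ N ∈ I := by
      rw [← hma]
      have : (t : A) * s * P ^ N = t * w := by rw [← e']; ring
      rw [this]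
      exact I.mul_mem_left _ hw
    refine ⟨max m N, ?_⟩
    let T : Ideal A := Ideal.span (Set.range fun i => x i ^ (max m N + 1))
    let q : A := x 0 ^ (max m N - m) * P ^ (max m N - N)
    have hI : ∀ y ∈ I, q * y ∈ T := fun y hy => by
      suffices I ≤ Submodule.comap (LinearMap.mulLeft A q) T from this hy
      refine Ideal.span_le.2 ?_
      rintro _ ⟨i, rfl⟩
      show q * x i.succ ^ (N + 1) ∈ T
      obtain ⟨c, hc⟩ : x i.succ ∣ P := Finset.dvd_prod_of_mem (fun i : Fin n => x i.succ) (Finset.mem_univ i)
      have e : max m N + 1 = (max m N - N) + (N + 1) := by omega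
      have : q * x i.succ ^ (N + 1) = (x 0 ^ (max m N - m) * c ^ (max m N - N)) * x i.succ ^ (max m N + 1) := by
        rw [e, pow_add]
        show x 0 ^ (max m N - m) * P ^ (max m N - N) * _ = _
        rw [hc, mul_pow]
        ring
      rw [this]
      exact T.mul_mem_left _ (Ideal.subset_span ⟨i.succ, rfl⟩)
    have h0 : q * (a * x 0 ^ (m + 1) * P ^ N) ∈ T := by
      have e : x 0 ^ (max m N + 1) = x 0 ^ (max m N - m) * x 0 ^ (m + 1) := by
        rw [← pow_add]
        congr 1
        omega
      have : q * (a * x 0 ^ (m + 1) * P ^ N) = a * P ^ (max m N - N) * P ^ N * x 0 ^ (max m N + 1) := by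
        rw [e]
        ring
      rw [this]
      exact T.mul_mem_left _ (Ideal.subset_span ⟨0, rfl⟩)
    have : (∏ i, x i) ^ max m N = q * (x 0 ^ m * (1 + a * x 0) * P ^ N) - q * (a * x 0 ^ (m + 1) * P ^ N) := by
      rw [Fin.prod_univ_succ, mul_pow]
      show x 0 ^ max m N * P ^ max m N = _
      conv_lhs => rw [show max m N = (max m N - m) + m by omega, pow_add]
      conv_lhs => enter [2]; rw [show max m N - m + m = (max m N - N) + N by omega, pow_add]
      ring
    rw [this]
    exact sub_mem (hI _ h1) h0

/-- A power of the product lies in the ideal of far higher powers. -/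
theorem exists_prod_pow_mem_pow {n : ℕ} (h : ∀ l : LTSeries (PrimeSpectrum A), l.length < n) (x : Fin n → A)
    (k : ℕ) : ∃ N : ℕ, (∏ i, x i) ^ N ∈ Ideal.span (Set.range fun i => x i ^ (N + k)) := by
  obtain ⟨N, hN⟩ := exists_prod_pow_mem n h fun i => x i ^ k
  refine ⟨k * N, ?_⟩
  have e : ∀ i, (x i ^ k) ^ (N + 1) = x i ^ (k * N + k) := fun i => by rw [← pow_mul]; ring
  simp only [e, Finset.prod_pow, ← pow_mul] at hN
  exact hN

/-- Finitely many elements have the radical of `n` of them. -/
theorem exists_fin_radical {n : ℕ} (h : ∀ l : LTSeries (PrimeSpectrum A), l.length < n) (s : Finset A) :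
    ∃ b : Fin n → A, ∀ p : PrimeSpectrum A, (∀ i, b i ∈ p.asIdeal) ↔ ∀ a ∈ s, a ∈ p.asIdeal := by
  classical
  induction s using Finset.induction_on with
  | empty => exact ⟨fun _ => 0, fun p => ⟨fun _ a ha => absurd ha (Finset.notMem_empty a), fun _ _ => zero_mem _⟩⟩
  | insert a s ha ih =>
    obtain ⟨b, hb⟩ := ih
    obtain ⟨x, N, hN⟩ := exists_mem_radical n h a b
    refine ⟨fun i => b i + a * x i, fun p => ⟨fun hp c hc => ?_, fun hp i => ?_⟩⟩
    · have hap : a ∈ p.asIdeal := p.isPrime.mem_of_pow_mem N (Ideal.span_le.2 (by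
        rintro _ ⟨i, rfl⟩
        exact hp i) hN)
      rcases Finset.mem_insert.1 hc with rfl | hc
      · exact hap
      · refine (hb p).1 (fun i => ?_) c hc
        exact (Submodule.add_mem_iff_left _ (p.asIdeal.mul_mem_right _ hap)).1 (hp i)
    · exact add_mem ((hb p).2 (fun c hc => hp c (Finset.mem_insert_of_mem hc)) i)
        (p.asIdeal.mul_mem_right _ (hp a (Finset.mem_insert_self a s)))

end Groth.ModEtQCoh.DimVanish
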