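import Groth.Agent.ModEtQCoh.DimVanish.Sections

/-!
# Cohomology on quasi-compact opens of an affine chart

For an affine chart, a union of `n + 1` basic opens has no cohomology above degree `n`, and its cohomology in
degree `n` is generated, in the sense below, by sections on the common intersection.
-/

set_option autoImplicit false
set_option backward.isDefEq.respectTransparency.types false
set_option linter.style.haveILetI false
set_option maxHeartbeats 400000
universe u

open CategoryTheory CategoryTheory.Limits AlgebraicGeometry Opposite AlgSp Groth.ModEtQCoh Abelian Groth.EtVan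
  Groth.FlatMor2.AlgSpColim

noncomputable section

namespace Groth.ModEtQCoh.DimVanish

variable {S : Scheme.{u}} {X : AlgSp.Space S} {E₀ : EtOver X.obj} [IsAffine E₀.obj.left.left]
  (M : ModEt X.obj) [M.IsQuasicoherent]

omit [IsAffine E₀.obj.left.left] [M.IsQuasicoherent] in
/-- Transport along an equality of opens. -/
theorem subsingleton_Hop_congr {O O' : E₀.obj.left.left.Opens} (e : O = O') {q : ℕ} (h : Subsingleton (Hop (shf M) O' q)) :
    Subsingleton (Hop (shf M) O q) := e ▸ h

/-- A union of `n` basic opens has no cohomology in positive degrees from `n` on. -/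
theorem subsingleton_un : ∀ (n : ℕ) (f : Fin n → fnA E₀) (h : fnA E₀) (q : ℕ), n ≤ q + 1 →
    Subsingleton (Hop (shf M) (un f h) (q + 1))
  | 0, f, h, q, _ =>
    subsingleton_Hop_congr M (show un f h = ⊥ from iSup_of_empty _)
      (subsingleton_Hop E₀ (shf M) ⊥ (isAffineOpen_bot _) (cechAcyclic_shf M) q)
  | 1, f, h, q, _ =>
    subsingleton_Hop_congr M (un_one f h)
      (subsingleton_Hop E₀ (shf M) (D (h * ∏ i, f i)) (isAffineOpen_D _) (cechAcyclic_shf M) q)
  | n + 2, f, h, 0, hq => by omega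
  | n + 2, f, h, q + 1, hq => by
    let f' := fun i : Fin (n + 1) => f i.castSucc
    have h₁ := subsingleton_un (n + 1) f' h (q + 1) (by omega)
    have h₂ := subsingleton_Hop E₀ (shf M) (D (h * f (Fin.last _))) (isAffineOpen_D _) (cechAcyclic_shf M) (q + 1)
    have h₁₂ := subsingleton_Hop_congr M (un_inf f' h (f (Fin.last _))) (subsingleton_un (n + 1) f' (h * f (Fin.last _)) q (by omega))
    refine subsingleton_Hop_congr M (un_succ f h) (subsingleton_of_forall_eq 0 fun x => ?_)
    obtain ⟨y, rfl⟩ := exists_δ_eq (shf M) (un f' h) (D (h * f (Fin.last _))) x (h₁.elim _ _) (h₂.elim _ _)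
    rw [h₁₂.elim y 0, map_zero]

/-- Degree zero cohomology on an open is the group of sections. -/
def evE (O : E₀.obj.left.left.Opens) : Hop (shf M) O 0 ≃+ sec M O :=
  AddEquiv.ofBijective (ev₀ (shf M) O : Hop (shf M) O 0 →+ sec M O) (bijective_ev₀ (shf M) O)

omit [IsAffine E₀.obj.left.left] [M.IsQuasicoherent] in
theorem evE_symm_rs {O O' : E₀.obj.left.left.Opens} (l : O ≤ O') (t : sec M O') :
    (evE M O).symm (rs M l t) = res (shf M) l 0 ((evE M O').symm t) := by
  refine (evE M O).injective ?_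
  rw [AddEquiv.apply_symm_apply]
  refine Eq.trans ?_ (ev₀_res (shf M) l ((evE M O').symm t)).symm
  exact congrArg (resM M (objMap l)) ((evE M O').apply_symm_apply t).symm

/-- The sections that generate. -/
abbrev Gen {n : ℕ} (f : Fin n → fnA E₀) (h : fnA E₀) {ι : Type u} (g : ι → fnA E₀)
    (hle : ∀ k, D (h * ∏ j, f j) ≤ D (g k * ∏ j, f j))
    (hle' : ∀ i, D (h * ∏ j, f j) ≤ D (h * ∏ j ∈ Finset.univ.erase i, f j)) :
    AddSubgroup (sec M (D (h * ∏ j, f j))) := (⨆ k, (rs M (hle k)).range) ⊔ ⨆ i, (rs M (hle' i)).range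

/-- The classes that are asserted to be all. -/
abbrev Tgt (n : ℕ) (f : Fin (n + 1) → fnA E₀) (h : fnA E₀) {ι : Type u} (g : ι → fnA E₀) (hg : ∀ k, D h ≤ D (g k)) :
    AddSubgroup (Hop (shf M) (un f h) n) :=
  (⨆ k, (res (shf M) (un_mono f (hg k)) n).range) ⊔ ⨆ _ : n = 0, (res (shf M) (un_le f h) n).range

omit [M.IsQuasicoherent] in
theorem mem_tgt_zero (f : Fin 1 → fnA E₀) (h : fnA E₀) {ι : Type u} (g : ι → fnA E₀) (hg : ∀ k, D h ≤ D (g k))
    (hle : ∀ k, D (h * ∏ j, f j) ≤ D (g k * ∏ j, f j))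
    (hle' : ∀ i, D (h * ∏ j, f j) ≤ D (h * ∏ j ∈ Finset.univ.erase i, f j))
    (hyp : ∀ s, s ∈ Gen M f h g hle hle') (z : Hop (shf M) (un f h) 0) : z ∈ Tgt M 0 f h g hg := by
  let ψ : sec M (D (h * ∏ j, f j)) →+ Hop (shf M) (un f h) 0 :=
    (res (shf M) (un_one f h).le 0).comp (evE M _).symm.toAddMonoidHom
  have hψ : ∀ s, ψ s ∈ Tgt M 0 f h g hg := by
    intro s
    refine (show Gen M f h g hle hle' ≤ (Tgt M 0 f h g hg).comap ψ from ?_) (hyp s)
    refine sup_le (iSup_le fun k => ?_) (iSup_le fun i => ?_)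
    · rintro _ ⟨t, rfl⟩
      refine AddSubgroup.mem_sup_left (AddSubgroup.mem_iSup_of_mem k
        ⟨res (shf M) (un_one f (g k)).le 0 ((evE M _).symm t), ?_⟩)
      show _ = res (shf M) (un_one f h).le 0 ((evE M _).symm (rs M (hle k) t))
      rw [evE_symm_rs, res_res, res_res]
    · rintro _ ⟨t, rfl⟩
      have e : D (h * ∏ j ∈ Finset.univ.erase i, f j) = D h := by
        rw [show Finset.univ.erase i = (∅ : Finset (Fin 1)) by
          ext j; simp [Subsingleton.elim j i], Finset.prod_empty, mul_one]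
      refine AddSubgroup.mem_sup_right (AddSubgroup.mem_iSup_of_mem rfl
        ⟨res (shf M) e.ge 0 ((evE M _).symm t), ?_⟩)
      show _ = res (shf M) (un_one f h).le 0 ((evE M _).symm (rs M (hle' i) t))
      rw [evE_symm_rs, res_res, res_res]
  have e : ψ (evE M _ (res (shf M) (un_one f h).ge 0 z)) = z := by
    show res (shf M) _ 0 ((evE M _).symm (evE M _ _)) = z
    rw [AddEquiv.symm_apply_apply]
    exact res_refl _ _ _ z
  exact e ▸ hψ _

section Up

variable {V₁ V₂ I W : E₀.obj.left.left.Opens} (eI : V₁ ⊓ V₂ ≤ I) (eW : W ≤ V₁ ⊔ V₂) (m : ℕ)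

/-- The connecting map between the two opens in question. -/
def upMap : Hop (shf M) I m →+ Hop (shf M) W (m + 1) :=
  ((res (shf M) eW (m + 1)).comp (δ (shf M) V₁ V₂ m)).comp (res (shf M) eI m)

omit [IsAffine E₀.obj.left.left] [M.IsQuasicoherent] in
theorem upMap_apply (v : Hop (shf M) I m) :
    upMap M eI eW m v = res (shf M) eW (m + 1) (δ (shf M) V₁ V₂ m (res (shf M) eI m v)) := rfl

omit [IsAffine E₀.obj.left.left] [M.IsQuasicoherent] in
theorem upMap_surjective (eI' : I ≤ V₁ ⊓ V₂) (eW' : V₁ ⊔ V₂ ≤ W) (h₁ : Subsingleton (Hop (shf M) V₁ (m + 1)))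
    (h₂ : Subsingleton (Hop (shf M) V₂ (m + 1))) (z : Hop (shf M) W (m + 1)) : ∃ w, upMap M eI eW m w = z := by
  obtain ⟨y, hy⟩ := exists_δ_eq (shf M) V₁ V₂ (res (shf M) eW' (m + 1) z) (h₁.elim _ _) (h₂.elim _ _)
  refine ⟨res (shf M) eI' m y, ?_⟩
  rw [upMap_apply, res_refl, hy]
  exact res_refl _ _ _ z

omit [IsAffine E₀.obj.left.left] [M.IsQuasicoherent] in
theorem upMap_left (l : I ≤ V₁) (v : Hop (shf M) V₁ m) : upMap M eI eW m (res (shf M) l m v) = 0 := by
  rw [upMap_apply, res_res, δ_res_left, map_zero]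

omit [IsAffine E₀.obj.left.left] [M.IsQuasicoherent] in
theorem upMap_right (l : I ≤ V₂) (v : Hop (shf M) V₂ m) : upMap M eI eW m (res (shf M) l m v) = 0 := by
  rw [upMap_apply, res_res, δ_res_right, map_zero]

omit [IsAffine E₀.obj.left.left] [M.IsQuasicoherent] in
theorem upMap_natural {V₁' V₂' I' W' : E₀.obj.left.left.Opens} (eI' : V₁' ⊓ V₂' ≤ I') (eW' : W' ≤ V₁' ⊔ V₂')
    (h₁ : V₁ ≤ V₁') (h₂ : V₂ ≤ V₂') (l : I ≤ I') (l' : W ≤ W') (v : Hop (shf M) I' m) :
    res (shf M) l' (m + 1) (upMap M eI' eW' m v) = upMap M eI eW m (res (shf M) l m v) := by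
  have e : res (shf M) eI m (res (shf M) l m v) = res (shf M) (inf_le_inf h₁ h₂) m (res (shf M) eI' m v) := by
    rw [res_res, res_res]
  rw [upMap_apply, upMap_apply, e, ← res_δ (shf M) h₁ h₂, res_res, res_res]

end Up

omit [IsAffine E₀.obj.left.left] [M.IsQuasicoherent] in
theorem rs_square {P Q R T : E₀.obj.left.left.Opens} (a : P ≤ Q) (b : Q ≤ T) (c : P ≤ R) (d : R ≤ T) (x : sec M T) :
    rs M a (rs M b x) = rs M c (rs M d x) := by
  rw [rs_rs, rs_rs]

variable {n : ℕ} (f : Fin (n + 2) → fnA E₀) (h : fnA E₀) {ι : Type u} (g : ι → fnA E₀)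

/-- The data one step down. -/
abbrev gStep : Option ι → fnA E₀ := fun o => o.elim h fun k => g k * f (Fin.last _)

omit [IsAffine E₀.obj.left.left] in
theorem hg_step (hg : ∀ k, D h ≤ D (g k)) : ∀ o, D (h * f (Fin.last _)) ≤ D (gStep f h g o)
  | none => by rw [D_mul]; exact inf_le_left
  | some k => by show _ ≤ D (g k * _); rw [D_mul, D_mul]; exact inf_le_inf_right _ (hg k)

omit [IsAffine E₀.obj.left.left] in
theorem D_step : D (h * f (Fin.last _) * ∏ j : Fin (n + 1), f j.castSucc) = D (h * ∏ j, f j) := by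
  rw [Fin.prod_univ_castSucc f, mul_assoc, mul_comm (f (Fin.last _))]

omit [M.IsQuasicoherent] in
theorem gen_step (hle : ∀ k, D (h * ∏ j, f j) ≤ D (g k * ∏ j, f j))
    (hle' : ∀ i, D (h * ∏ j, f j) ≤ D (h * ∏ j ∈ Finset.univ.erase i, f j))
    (hyp : ∀ s, s ∈ Gen M f h g hle hle')
    (hlo : ∀ o, D (h * f (Fin.last _) * ∏ j : Fin (n + 1), f j.castSucc) ≤ D (gStep f h g o * ∏ j : Fin (n + 1), f j.castSucc))
    (hli : ∀ i, D (h * f (Fin.last _) * ∏ j : Fin (n + 1), f j.castSucc) ≤
      D (h * f (Fin.last _) * ∏ j ∈ Finset.univ.erase i, f (Fin.castSucc j))) :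
    ∀ s, s ∈ Gen M (fun j : Fin (n + 1) => f j.castSucc) (h * f (Fin.last _)) (gStep f h g) hlo hli := by
  intro s
  have hs : rs M (D_step f h).le (rs M (D_step f h).ge s) = s := by
    rw [rs_rs]
    show resM M (objMap _) s = s
    rw [show objMap ((D_step f h).le.trans (D_step f h).ge) = 𝟙 _ from
      EtOver.hom_ext _ _ (Over.OverMorphism.ext (E₀.obj.left.left.homOfLE_rfl _))]
    exact resM_id M s
  rw [← hs]
  refine AddSubgroup.mem_comap.1 (SetLike.le_def.1 (?_ : Gen M f h g hle hle' ≤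
    (Gen M (fun j : Fin (n + 1) => f j.castSucc) (h * f (Fin.last _)) (gStep f h g) hlo hli).comap (rs M (D_step f h).le))
    (hyp (rs M (D_step f h).ge s)))
  refine sup_le (iSup_le fun k => ?_) (iSup_le fun i => ?_)
  · rintro _ ⟨t, rfl⟩
    have e : gStep f h g (some k) * ∏ j : Fin (n + 1), f j.castSucc = g k * ∏ j, f j := by
      show g k * f (Fin.last _) * _ = _
      rw [Fin.prod_univ_castSucc f, mul_assoc, mul_comm (f (Fin.last _))]
    refine AddSubgroup.mem_comap.2 (AddSubgroup.mem_sup_left ?_)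
    refine AddSubgroup.mem_iSup_of_mem (some k) ?_
    refine AddMonoidHom.mem_range.2 ⟨rs M (congrArg D e).le t, ?_⟩
    exact rs_square M _ _ _ _ t
  · rintro _ ⟨t, rfl⟩
    induction i using Fin.lastCases with
    | last =>
      have e : ∏ j ∈ Finset.univ.erase (Fin.last (n + 1)), f j = ∏ j : Fin (n + 1), f j.castSucc := by
        rw [Fin.univ_castSuccEmb, Finset.erase_cons, Finset.prod_map]
        rfl
      refine AddSubgroup.mem_comap.2 (AddSubgroup.mem_sup_left ?_)
      refine AddSubgroup.mem_iSup_of_mem none ?_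
      refine AddMonoidHom.mem_range.2 ⟨rs M (congrArg (fun b => D (h * b)) e).ge t, ?_⟩
      exact rs_square M _ _ _ _ t
    | cast i =>
      have e : ∏ j ∈ Finset.univ.erase i.castSucc, f j = f (Fin.last _) * ∏ j ∈ Finset.univ.erase i, f (Fin.castSucc j) := by
        have hset : Finset.univ.erase i.castSucc =
            insert (Fin.last (n + 1)) ((Finset.univ.erase i).map Fin.castSuccEmb) := by
          ext j
          induction j using Fin.lastCases with
          | last => simp [(Fin.castSucc_ne_last i).symm]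
          | cast j => simp [Fin.castSucc_ne_last]
        rw [hset, Finset.prod_insert (by simp [Fin.castSucc_ne_last]), Finset.prod_map]
        rfl
      refine AddSubgroup.mem_comap.2 (AddSubgroup.mem_sup_right ?_)
      refine AddSubgroup.mem_iSup_of_mem i ?_
      have e' : D (h * f (Fin.last (n + 1)) * ∏ j ∈ Finset.univ.erase i, f (Fin.castSucc j)) =
          D (h * ∏ j ∈ Finset.univ.erase i.castSucc, f j) := by rw [e, mul_assoc]
      refine AddMonoidHom.mem_range.2 ⟨rs M e'.le t, ?_⟩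
      exact rs_square M _ _ _ _ t

/-- The map one step up. -/
abbrev stepUp : Hop (shf M) (un (fun j : Fin (n + 1) => f j.castSucc) (h * f (Fin.last _))) n →+ Hop (shf M) (un f h) (n + 1) :=
  upMap M (un_inf (fun j : Fin (n + 1) => f j.castSucc) h (f (Fin.last _))).le (un_succ f h).le n

omit f h g in
/-- The top cohomology of a union of basic opens is generated by sections on their intersection. -/
theorem mem_tgt : ∀ (n : ℕ) (f : Fin (n + 1) → fnA E₀) (h : fnA E₀) {ι : Type u} (g : ι → fnA E₀)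
    (hg : ∀ k, D h ≤ D (g k)) (hle : ∀ k, D (h * ∏ j, f j) ≤ D (g k * ∏ j, f j))
    (hle' : ∀ i, D (h * ∏ j, f j) ≤ D (h * ∏ j ∈ Finset.univ.erase i, f j)),
    (∀ s, s ∈ Gen M f h g hle hle') → ∀ z, z ∈ Tgt M n f h g hg
  | 0, f, h, ι, g, hg, hle, hle', hyp, z => mem_tgt_zero M f h g hg hle hle' hyp z
  | n + 1, f, h, ι, g, hg, hle, hle', hyp, z => by
    have hlo : ∀ o, D (h * f (Fin.last _) * ∏ j : Fin (n + 1), f j.castSucc) ≤
        D (gStep f h g o * ∏ j : Fin (n + 1), f j.castSucc) := fun o => by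
      rw [D_mul, D_mul (gStep f h g o)]
      exact inf_le_inf_right _ (hg_step f h g hg o)
    have hli : ∀ i, D (h * f (Fin.last _) * ∏ j : Fin (n + 1), f j.castSucc) ≤
        D (h * f (Fin.last _) * ∏ j ∈ Finset.univ.erase i, f (Fin.castSucc j)) := fun i => by
      rw [← Finset.mul_prod_erase _ _ (Finset.mem_univ i), D_mul, D_mul (h * f (Fin.last _)) (∏ j ∈ _, _), D_mul (f i.castSucc)]
      exact inf_le_inf_left _ inf_le_right
    have IH := mem_tgt n (fun j : Fin (n + 1) => f j.castSucc) (h * f (Fin.last _)) (gStep f h g)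
      (hg_step f h g hg) hlo hli (gen_step M f h g hle hle' hyp hlo hli)
    obtain ⟨w, rfl⟩ := upMap_surjective M (un_inf (fun j : Fin (n + 1) => f j.castSucc) h (f (Fin.last _))).le (un_succ f h).le n
      (un_inf (fun j : Fin (n + 1) => f j.castSucc) h (f (Fin.last _))).ge (un_succ f h).ge
      (subsingleton_un M (n + 1) (fun j : Fin (n + 1) => f j.castSucc) h n le_rfl)
      (subsingleton_Hop E₀ (shf M) (D (h * f (Fin.last _))) (isAffineOpen_D _) (cechAcyclic_shf M) n) z
    refine AddSubgroup.mem_comap.1 (SetLike.le_def.1 (?_ : Tgt M n (fun j : Fin (n + 1) => f j.castSucc) (h * f (Fin.last _))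
      (gStep f h g) (hg_step f h g hg) ≤ (Tgt M (n + 1) f h g hg).comap (stepUp M f h)) (IH w))
    refine sup_le (iSup_le fun o => ?_) (iSup_le fun h0 => ?_)
    · rintro _ ⟨v, rfl⟩
      refine AddSubgroup.mem_comap.2 ?_
      match o with
      | none =>
        exact (upMap_left M (un_inf (fun j : Fin (n + 1) => f j.castSucc) h (f (Fin.last _))).le (un_succ f h).le n
          (un_mono _ (hg_step f h g hg none)) v).symm ▸ zero_mem (Tgt M (n + 1) f h g hg)
      | some k =>
        refine AddSubgroup.mem_sup_left ?_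
        refine AddSubgroup.mem_iSup_of_mem k ?_
        refine AddMonoidHom.mem_range.2 ⟨stepUp M f (g k) v, ?_⟩
        exact upMap_natural M _ _ n _ _ (un_mono _ (hg k)) (hg_step f h g hg (some k)) _ _ v
    · rintro _ ⟨v, rfl⟩
      refine AddSubgroup.mem_comap.2 ?_
      exact (upMap_right M (un_inf (fun j : Fin (n + 1) => f j.castSucc) h (f (Fin.last _))).le (un_succ f h).le n
        (un_le _ _) v).symm ▸ zero_mem (Tgt M (n + 1) f h g hg)

end Groth.ModEtQCoh.DimVanish
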