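import Groth.Agent.ModEtQCoh.DimVanish.Cech
import Groth.Agent.ModEtQCoh.SuppPow
import Groth.Agent.S10766
import Mathlib.AlgebraicGeometry.Morphisms.QuasiCompact

/-!
# Vanishing of quasi-coherent cohomology above the dimension
-/

set_option autoImplicit false
set_option backward.isDefEq.respectTransparency.types false
set_option linter.style.haveILetI false
set_option maxHeartbeats 800000
universe u

open CategoryTheory CategoryTheory.Limits AlgebraicGeometry Opposite AlgSp Groth.ModEtQCoh Abelian Groth.EtVan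
  Groth.FlatMor2.AlgSpColim

noncomputable section

namespace Groth.ModEtQCoh.DimVanish

variable {S : Scheme.{u}} {X : AlgSp.Space S} {E₀ : EtOver X.obj} [IsAffine E₀.obj.left.left]

/-- The chains of primes of an affine chart are bounded by the dimension of the space. -/
theorem series_lt {d : ℕ} (hdim : AlgSp.dim X.obj ≤ (d : WithBot ℕ∞))
    (l : LTSeries (PrimeSpectrum (fnA E₀))) : l.length < d + 1 := by
  let Z := E₀.obj.left.left
  have h1 : topologicalKrullDim ↥Z ≤ AlgSp.dim X.obj :=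
    le_iSup_of_le E₀.obj.left (le_iSup_of_le E₀.obj.hom (le_iSup_of_le E₀.property le_rfl))
  have h2 : topologicalKrullDim ↥Z = ringKrullDim (fnA E₀) :=
    (IsHomeomorph.topologicalKrullDim_eq _ (Scheme.Hom.homeomorph Z.isoSpec.hom).isHomeomorph).trans
      (PrimeSpectrum.topologicalKrullDim_eq_ringKrullDim (R := fnA E₀))
  have h3 : ((l.length : ℕ∞) : WithBot ℕ∞) ≤ (d : WithBot ℕ∞) :=
    (Order.LTSeries.length_le_krullDim l).trans (le_of_eq_of_le h2.symm (h1.trans hdim))
  rw [show (d : WithBot ℕ∞) = ((d : ℕ∞) : WithBot ℕ∞) from rfl, WithBot.coe_le_coe, Nat.cast_le] at h3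
  omega

omit [IsAffine E₀.obj.left.left] in
theorem D_one : D (1 : fnA E₀) = ⊤ := Scheme.basicOpen_of_isUnit _ isUnit_one

/-- A quasi-compact open of a chart of dimension `≤ d` is a union of `d + 1` basic opens. -/
theorem exists_eq_un {d : ℕ} (hdim : AlgSp.dim X.obj ≤ (d : WithBot ℕ∞)) (O : E₀.obj.left.left.Opens)
    (hO : IsCompact (O : Set ↥E₀.obj.left.left)) : ∃ b : Fin (d + 1) → fnA E₀, O = un b 1 := by
  classical
  obtain ⟨s, hs, hOs⟩ := (isCompact_and_isOpen_iff_finite_and_eq_biUnion_basicOpen).1 ⟨hO, O.isOpen⟩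
  obtain ⟨b, hb⟩ := exists_fin_radical (series_lt hdim) hs.toFinset
  refine ⟨b, TopologicalSpace.Opens.ext (Set.ext fun z => ?_)⟩
  simp only [hOs, un, one_mul, TopologicalSpace.Opens.coe_iSup, Set.mem_iUnion, SetLike.mem_coe, D,
    SuppPow.mem_basicOpen_iff_notMem, exists_prop]
  have := not_congr (hb (E₀.obj.left.left.isoSpec.hom z))
  simp only [not_forall, exists_prop, Set.Finite.mem_toFinset] at this
  exact this.symm

variable (M : ModEt X.obj) [M.IsQuasicoherent]

/-- Above the dimension, classes on a quasi-compact open of a chart come from the chart. -/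
theorem mem_range_res_top {d : ℕ} (hdim : AlgSp.dim X.obj ≤ (d : WithBot ℕ∞)) (O : E₀.obj.left.left.Opens)
    (hO : IsCompact (O : Set ↥E₀.obj.left.left)) {q : ℕ} (hq : d ≤ q) (l : O ≤ D 1) (y : Hop (shf M) O q) :
    ∃ v, res (shf M) l q v = y := by
  obtain ⟨b, rfl⟩ := exists_eq_un hdim O hO
  rcases eq_or_lt_of_le hq with rfl | hlt
  · have hd := series_lt (E₀ := E₀) hdim
    let g : PEmpty.{u + 1} → fnA E₀ := fun i => i.elim
    have hle : ∀ i, D (∏ j, b j) ≤ D (∏ j ∈ Finset.univ.erase i, b j) := fun i => by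
      rw [← Finset.mul_prod_erase _ _ (Finset.mem_univ i), D_mul]
      exact inf_le_right
    have hle' : ∀ i, D ((1 : fnA E₀) * ∏ j, b j) ≤ D (1 * ∏ j ∈ Finset.univ.erase i, b j) := fun i => by
      rw [one_mul, one_mul]
      exact hle i
    have hyp : ∀ s, s ∈ Gen M b 1 g (fun k => k.elim) hle' := fun s => by
      have e1 : D ((1 : fnA E₀) * ∏ j, b j) = D (∏ j, b j) := by rw [one_mul]
      have hs : rs M e1.le (rs M e1.ge s) = s := by
        rw [rs_rs]
        show resM M (objMap _) s = s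
        rw [show objMap (e1.le.trans e1.ge) = 𝟙 _ from
          EtOver.hom_ext _ _ (Over.OverMorphism.ext (E₀.obj.left.left.homOfLE_rfl _))]
        exact resM_id M s
      rw [← hs]
      refine AddSubgroup.mem_comap.1 (SetLike.le_def.1 (?_ : (⨆ i, (rs M (hle i)).range) ≤
        (Gen M b 1 g (fun k => k.elim) hle').comap (rs M e1.le)) (mem_iSup_range M hd b hle (rs M e1.ge s)))
      refine iSup_le fun i => ?_
      rintro _ ⟨t, rfl⟩
      refine AddSubgroup.mem_comap.2 (AddSubgroup.mem_sup_right ?_)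
      refine AddSubgroup.mem_iSup_of_mem i ?_
      have e2 : D ((1 : fnA E₀) * ∏ j ∈ Finset.univ.erase i, b j) = D (∏ j ∈ Finset.univ.erase i, b j) := by
        rw [one_mul]
      refine AddMonoidHom.mem_range.2 ⟨rs M e2.le t, ?_⟩
      exact rs_square M _ _ _ _ t
    have h := mem_tgt M d b 1 g (fun k => k.elim) (fun k => k.elim) hle' hyp y
    refine AddMonoidHom.mem_range.1 (SetLike.le_def.1 ?_ h)
    exact sup_le (iSup_le fun k => k.elim) (iSup_le fun _ => le_rfl)
  · obtain ⟨q, rfl⟩ : ∃ m, q = m + 1 := ⟨q - 1, by omega⟩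
    exact ⟨0, (map_zero _).trans ((subsingleton_un M (d + 1) b 1 q (by omega)).elim _ _)⟩

/-- A morphism of spaces etale over `X`. -/
def mkSpHom {W W' : EtSpOver X} (a : W.obj.left.obj ⟶ W'.obj.left.obj) (w : a ≫ W'.obj.hom.hom = W.obj.hom.hom) :
    W ⟶ W' :=
  ObjectProperty.homMk (Over.homMk (ObjectProperty.homMk a) (ObjectProperty.hom_ext _ w))

omit [IsAffine E₀.obj.left.left] in
/-- Classes above the dimension on an open subspace of an affine space etale over `X` come from it. -/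
theorem mem_range_of_open {d : ℕ} (hdim : AlgSp.dim X.obj ≤ (d : WithBot ℕ∞)) {V UV : EtSpOver X} (q : UV ⟶ V)
    {T O' : Over S} [IsAffine T.left] (e : (yon S).obj T ≅ V.obj.left.obj) (o : O' ⟶ T) [IsOpenImmersion o.left]
    (hc : IsCompact (Set.range o.left)) (α : UV.obj.left.obj ≅ (yon S).obj O')
    (hα : α.hom ≫ (yon S).map o ≫ e.hom = q.hom.left.hom) {m : ℕ} (hm : d ≤ m) (y : Ext (freeH UV) (shf M) m) :
    ∃ v : Ext (freeH V) (shf M) m, (Ext.mk₀ (frMap q)).comp v (zero_add m) = y := by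
  let E : EtOver X.obj := EtOver.mk (e.hom ≫ V.obj.hom.hom) (V.property e.hom (repWith_etale_of_isIso e.hom))
  haveI : IsAffine E.obj.left.left := ‹IsAffine T.left›
  let O : E.obj.left.left.Opens := o.left.opensRange
  let c : O' ⟶ openOver E O := Over.homMk o.left.isoOpensRange.hom (by
    show o.left.isoOpensRange.hom ≫ O.ι ≫ T.hom = O'.hom
    rw [Scheme.Hom.isoOpensRange_hom_ι_assoc, Over.w o])
  let ci : openOver E O ⟶ O' := Over.homMk o.left.isoOpensRange.inv (by
    show o.left.isoOpensRange.inv ≫ O'.hom = O.ι ≫ T.hom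
    rw [← Over.w o, Scheme.Hom.isoOpensRange_inv_comp_assoc])
  let ι₀ : openOver E O ⟶ T := Over.homMk O.ι rfl
  have hc1 : c ≫ ι₀ = o := Over.OverMorphism.ext (Scheme.Hom.isoOpensRange_hom_ι o.left)
  have hcc : ci ≫ c = 𝟙 _ := Over.OverMorphism.ext o.left.isoOpensRange.inv_hom_id
  have hcc' : c ≫ ci = 𝟙 _ := Over.OverMorphism.ext o.left.isoOpensRange.hom_inv_id
  let a : UV.obj.left.obj ⟶ (yon S).obj (openOver E O) := α.hom ≫ (yon S).map c
  have wψ : a ≫ (opn E O).obj.hom.hom = UV.obj.hom.hom := by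
    show (α.hom ≫ (yon S).map c) ≫ (yon S).map ι₀ ≫ e.hom ≫ V.obj.hom.hom = UV.obj.hom.hom
    rw [Category.assoc, ← (yon S).map_comp_assoc, hc1, ← over_w q, ← hα, Category.assoc, Category.assoc]
  let b : (yon S).obj (openOver E O) ⟶ UV.obj.left.obj := (yon S).map ci ≫ α.inv
  have hba : b ≫ a = 𝟙 _ := by
    show ((yon S).map ci ≫ α.inv) ≫ α.hom ≫ (yon S).map c = 𝟙 _
    rw [Category.assoc, α.inv_hom_id_assoc, ← Functor.map_comp, hcc, CategoryTheory.Functor.map_id]
  have hab : a ≫ b = 𝟙 _ := by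
    show (α.hom ≫ (yon S).map c) ≫ (yon S).map ci ≫ α.inv = 𝟙 _
    rw [Category.assoc, ← (yon S).map_comp_assoc, hcc', CategoryTheory.Functor.map_id, Category.id_comp,
      α.hom_inv_id]
  have wφ : b ≫ UV.obj.hom.hom = (opn E O).obj.hom.hom :=
    (congrArg (b ≫ ·) wψ.symm).trans ((Category.assoc _ _ _).symm.trans
      ((congrArg (· ≫ (opn E O).obj.hom.hom) hba).trans (Category.id_comp _)))
  let ψ : UV ⟶ opn E O := mkSpHom a wψ
  let φ : opn E O ⟶ UV := mkSpHom b wφ
  let l : O ≤ D 1 := le_of_le_of_eq le_top (D_one (E₀ := E)).symm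
  let ι₁ : openOver E (D 1) ⟶ T := Over.homMk (D (1 : fnA E)).ι rfl
  haveI : IsOpenImmersion ι₁.left := inferInstanceAs (IsOpenImmersion (D (1 : fnA E)).ι)
  have hr : Set.range (𝟙 T.left : T.left ⟶ T.left) ⊆ Set.range (D (1 : fnA E)).ι := by
    rw [Scheme.Opens.range_ι, D_one (E₀ := E)]
    exact Set.subset_univ _
  let γ : T ⟶ openOver E (D 1) := Over.homMk (IsOpenImmersion.lift (D (1 : fnA E)).ι (𝟙 T.left) hr) (by
    show IsOpenImmersion.lift (D (1 : fnA E)).ι (𝟙 T.left) hr ≫ (D (1 : fnA E)).ι ≫ T.hom = T.hom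
    rw [← Category.assoc, IsOpenImmersion.lift_fac, Category.id_comp])
  have hγ : γ ≫ ι₁ = 𝟙 T := Over.OverMorphism.ext (IsOpenImmersion.lift_fac _ _ _)
  have wβ : (e.inv ≫ (yon S).map γ) ≫ (opn E (D 1)).obj.hom.hom = V.obj.hom.hom := by
    show (e.inv ≫ (yon S).map γ) ≫ (yon S).map ι₁ ≫ e.hom ≫ V.obj.hom.hom = V.obj.hom.hom
    rw [Category.assoc, ← (yon S).map_comp_assoc, hγ, CategoryTheory.Functor.map_id, Category.id_comp,
      e.inv_hom_id_assoc]
  let β : V ⟶ opn E (D 1) := mkSpHom (e.inv ≫ (yon S).map γ) wβ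
  have hsq : ψ ≫ opnMap l = q ≫ β := by
    refine ObjectProperty.hom_ext _ (Over.OverMorphism.ext (ObjectProperty.hom_ext _ ?_))
    show (α.hom ≫ (yon S).map c) ≫ (yon S).map (inclOver l) = q.hom.left.hom ≫ e.inv ≫ (yon S).map γ
    haveI : Mono ι₁ := (Over.forget S).mono_of_mono_map (inferInstanceAs (Mono (D (1 : fnA E)).ι))
    have hci : c ≫ inclOver l = o ≫ γ := (cancel_mono ι₁).1 (by
      rw [Category.assoc, Category.assoc, hγ, Category.comp_id,
        show inclOver l ≫ ι₁ = ι₀ from Over.OverMorphism.ext (E.obj.left.left.homOfLE_ι l), hc1])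
    rw [← hα, Category.assoc, Category.assoc, Category.assoc, e.hom_inv_id_assoc, ← Functor.map_comp, hci,
      Functor.map_comp]
  have hψφ : ψ ≫ φ = 𝟙 UV :=
    ObjectProperty.hom_ext _ (Over.OverMorphism.ext (ObjectProperty.hom_ext _ hab))
  have hOc : IsCompact (O : Set ↥E.obj.left.left) := hc
  obtain ⟨v, hv⟩ := mem_range_res_top (E₀ := E) M hdim O hOc hm l ((Ext.mk₀ (frMap φ)).comp y (zero_add m))
  refine ⟨(Ext.mk₀ (frMap β)).comp v (zero_add m), ?_⟩
  have h1 := congrArg (fun z => (Ext.mk₀ (frMap ψ)).comp z (zero_add m)) hv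
  simp only [res_apply, Ext.mk₀_comp_mk₀_assoc, ← frMap_comp, hψφ, hsq] at h1
  refine (Ext.mk₀_comp_mk₀_assoc _ _ v).trans ((congrArg (fun k => (Ext.mk₀ k).comp v (zero_add m)) (frMap_comp q β).symm).trans ?_)
  refine h1.trans ?_
  rw [frMap, hMap_id, CategoryTheory.Functor.map_id, Ext.mk₀_id_comp]

variable {S : Scheme.{u}} [QuasiSeparatedSpace ↥S] (X : AlgSp.Space S)

/-- Quasi-coherent cohomology vanishes above the dimension. -/
theorem subsingleton_HModEt_of_dim_le (hqc : IsQuasiCompactSp X.obj) (hqs : IsQuasiSeparatedSp X.obj) {d : ℕ}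
    (hdim : AlgSp.dim X.obj ≤ (d : WithBot ℕ∞)) (M : ModEt X.obj) [M.IsQuasicoherent] {q : ℕ} (hq : d < q) :
    Subsingleton (HModEt X.obj M q) := by
  let P : EtSpOver X → Prop := fun W => ∀ m, d < m → Subsingleton (Ext (freeH W) (shf M) m)
  have h3 : ∀ (W : EtSpOver X) (T : Over S), IsAffine T.left → Nonempty ((yon S).obj T ≅ W.obj.left.obj) → P W := by
    intro W T _ ⟨e⟩ m hm
    obtain ⟨k, rfl⟩ : ∃ k, m = k + 1 := ⟨m - 1, by omega⟩
    exact subsingleton_ext_of_affine T e k _ (cechAcyclic_toAbEt M)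
  have h4 : ∀ (W U V UV : EtSpOver X) (j : U ⟶ W) (f : V ⟶ W) (p : UV ⟶ U) (q : UV ⟶ V),
      IsQuasiCompactSp W.obj.left.obj → IsQuasiSeparatedSp W.obj.left.obj → IsQuasiCompactSp U.obj.left.obj →
      (∃ T : Over S, IsAffine T.left ∧ Nonempty ((yon S).obj T ≅ V.obj.left.obj)) →
      IsElemDistSq j.hom.left.hom f.hom.left.hom →
      IsPullback p.hom.left.hom q.hom.left.hom j.hom.left.hom f.hom.left.hom → P U → P V → P UV → P W := by
    intro W U V UV j f p q _ hWs hUc ⟨T, hT, ⟨e⟩⟩ hsq hP hU hV _ m hm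
    haveI := hT
    obtain ⟨k, rfl⟩ : ∃ k, m = k + 1 := ⟨m - 1, by omega⟩
    refine subsingleton_of_forall_eq 0 fun x => ?_
    obtain ⟨y, rfl⟩ := exists_sqδ_eq (isPushout_free hsq hP).shortComplex.zero (shortExact_free hsq hP) (shf M) x
      ((hU (k + 1) hm).elim _ _) ((hV (k + 1) hm).elim _ _)
    let g : (yon S).obj T ⟶ W.obj.left.obj := e.hom ≫ f.hom.left.hom
    obtain ⟨O', o, fst, sq⟩ := hsq.1.rep g
    haveI : IsOpenImmersion o.left := hsq.1.property g fst o sq
    have hr : Set.range o.left = AlgSp.Points.ofPt g ⁻¹' Set.range (AlgSp.Points.map j.hom.left.hom) := by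
      ext t
      constructor
      · rintro ⟨z, rfl⟩
        exact ⟨_, (Groth.AlgSpBasic.map_eq_ofPt_iff sq _ _).2 ⟨z, rfl, rfl⟩⟩
      · rintro ⟨u, hu⟩
        obtain ⟨z, -, hz⟩ := (Groth.AlgSpBasic.map_eq_ofPt_iff sq u t).1 hu
        exact ⟨z, hz⟩
    haveI : CompactSpace (AlgSp.Points U.obj.left.obj) :=
      (Groth.AlgSpBasic.isQuasiCompactSp_iff_compactSpace U.obj.left.property).1 hUc
    have hc : IsCompact (Set.range o.left) := by
      rw [hr]
      exact Groth.AlgSp2.Induction.isCompact_preimage_ofPt W.obj.left.property hWs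
        (isCompact_range (AlgSp.Points.continuous_map _))
        ((Groth.AlgSpBasic.isOpenMap_map_of_repWith (fun _ _ φ (_ : IsOpenImmersion φ) => φ.isOpenMap) hsq.1).isOpen_range) g
    have sq2 : IsPullback fst ((yon S).map o ≫ e.hom) j.hom.left.hom f.hom.left.hom :=
      IsPullback.of_iso sq (Iso.refl _) (Iso.refl _) e (Iso.refl _) (by simp) (by simp) (by simp) (by simp [g])
    obtain ⟨v, hv⟩ := mem_range_of_open M hdim q e o hc (hP.isoIsPullback _ _ sq2) (hP.isoIsPullback_hom_snd _ _ sq2)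
      (Nat.lt_succ_iff.1 hm) y
    rw [← hv]
    exact sqδ_right _ _ _ v
  exact subsingleton_HEt_of_ext _ q (Groth.Agent.S10766.result X hqc hqs P h3 h4 (selfObj X) hqc hqs q hq)

end Groth.ModEtQCoh.DimVanish
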