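import Groth.Agent.ModEtQCoh.Vanish.SquareExt
import Groth.Agent.AlgSp2.Induction.ElemDist
import Groth.Agent.FlatMor2.AlgSpColim.QcSite
import Groth.Agent.ModEtQCoh.Main
import Mathlib.CategoryTheory.Limits.Shapes.Pullback.IsPullback.Basic

/-!
# Cohomology on the opens of an etale chart
-/

set_option autoImplicit false
set_option backward.isDefEq.respectTransparency.types false
set_option linter.style.haveILetI false
set_option maxHeartbeats 800000
universe u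

open CategoryTheory CategoryTheory.Limits AlgebraicGeometry Opposite AlgSp Groth.ModEtQCoh Abelian Groth.EtVan
  Groth.FlatMor2.AlgSpColim

noncomputable section

namespace Groth.ModEtQCoh.DimVanish

/-! ## Generalities on squares with exact short complex -/

section Square

variable {C : Type*} [Category C] [Abelian C] [HasExt.{u + 1} C] {A B₁ B₂ D : C} {p : A ⟶ B₁} {q : A ⟶ B₂}
  {i₁ : B₁ ⟶ D} {i₂ : B₂ ⟶ D} (w : biprod.lift p (-q) ≫ biprod.desc i₁ i₂ = 0)
  (hs : (ShortComplex.mk (biprod.lift p (-q)) (biprod.desc i₁ i₂) w).ShortExact) (F : C)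

/-- The connecting map of a square. -/
def sqδ (n : ℕ) : Ext A F n →+ Ext D F (n + 1) := hs.extClass.precomp F (add_comm 1 n)

theorem exists_sqδ_eq {n : ℕ} (x : Ext D F (n + 1)) (h₁ : (Ext.mk₀ i₁).comp x (zero_add _) = 0)
    (h₂ : (Ext.mk₀ i₂).comp x (zero_add _) = 0) : ∃ y, sqδ w hs F n y = x := by
  refine Ext.contravariant_sequence_exact₃ hs F x (Ext.biprod_ext ?_ ?_) (add_comm 1 n)
  · refine (Ext.mk₀_comp_mk₀_assoc biprod.inl (biprod.desc i₁ i₂) x).trans ?_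
    rw [biprod.inl_desc, h₁, Ext.comp_zero]
  · refine (Ext.mk₀_comp_mk₀_assoc biprod.inr (biprod.desc i₁ i₂) x).trans ?_
    rw [biprod.inr_desc, h₂, Ext.comp_zero]

theorem sqδ_left {n : ℕ} (y : Ext B₁ F n) : sqδ w hs F n ((Ext.mk₀ p).comp y (zero_add n)) = 0 := by
  have h := hs.extClass_comp_assoc ((Ext.mk₀ (biprod.fst : B₁ ⊞ B₂ ⟶ B₁)).comp y (zero_add n)) (h := add_comm 1 n)
  have e : (Ext.mk₀ (biprod.lift p (-q))).comp ((Ext.mk₀ (biprod.fst : B₁ ⊞ B₂ ⟶ B₁)).comp y (zero_add n)) (zero_add n) =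
      (Ext.mk₀ p).comp y (zero_add n) := by
    rw [Ext.mk₀_comp_mk₀_assoc, biprod.lift_fst]
  exact (congrArg (fun v => hs.extClass.comp v (add_comm 1 n)) e).symm.trans h

theorem sqδ_right {n : ℕ} (y : Ext B₂ F n) : sqδ w hs F n ((Ext.mk₀ q).comp y (zero_add n)) = 0 := by
  have h := hs.extClass_comp_assoc ((Ext.mk₀ (biprod.snd : B₁ ⊞ B₂ ⟶ B₂)).comp (-y) (zero_add n)) (h := add_comm 1 n)
  have e : (Ext.mk₀ (biprod.lift p (-q))).comp ((Ext.mk₀ (biprod.snd : B₁ ⊞ B₂ ⟶ B₂)).comp (-y) (zero_add n)) (zero_add n) =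
      (Ext.mk₀ q).comp y (zero_add n) := by
    rw [Ext.mk₀_comp_mk₀_assoc, biprod.lift_snd, Ext.mk₀_neg, Ext.neg_comp, Ext.comp_neg, neg_neg]
  exact (congrArg (fun v => hs.extClass.comp v (add_comm 1 n)) e).symm.trans h

theorem sqδ_natural {A' B₁' B₂' D' : C} {p' : A' ⟶ B₁'} {q' : A' ⟶ B₂'} {i₁' : B₁' ⟶ D'} {i₂' : B₂' ⟶ D'}
    (w' : biprod.lift p' (-q') ≫ biprod.desc i₁' i₂' = 0)
    (hs' : (ShortComplex.mk (biprod.lift p' (-q')) (biprod.desc i₁' i₂') w').ShortExact)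
    (a : A' ⟶ A) (b₁ : B₁' ⟶ B₁) (b₂ : B₂' ⟶ B₂) (d : D' ⟶ D) (e₁ : p' ≫ b₁ = a ≫ p) (e₂ : q' ≫ b₂ = a ≫ q)
    (e₃ : i₁' ≫ d = b₁ ≫ i₁) (e₄ : i₂' ≫ d = b₂ ≫ i₂) {n : ℕ} (y : Ext A F n) :
    (Ext.mk₀ d).comp (sqδ w hs F n y) (zero_add _) = sqδ w' hs' F n ((Ext.mk₀ a).comp y (zero_add n)) := by
  have c₁ : a ≫ biprod.lift p (-q) = biprod.lift p' (-q') ≫ biprod.map b₁ b₂ := by
    refine biprod.hom_ext _ _ ?_ ?_
    · simp [e₁]
    · simp [e₂]
  have c₂ : biprod.map b₁ b₂ ≫ biprod.desc i₁ i₂ = biprod.desc i₁' i₂' ≫ d := by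
    refine biprod.hom_ext' _ _ ?_ ?_
    · simp [e₃]
    · simp [e₄]
  have h := ShortComplex.ShortExact.extClass_naturality hs' hs
    { τ₁ := a, τ₂ := biprod.map b₁ b₂, τ₃ := d, comm₁₂ := c₁, comm₂₃ := c₂ }
  show (Ext.mk₀ d).comp (hs.extClass.comp y (add_comm 1 n)) (zero_add _) =
    hs'.extClass.comp ((Ext.mk₀ a).comp y (zero_add n)) (add_comm 1 n)
  refine (Ext.comp_assoc (Ext.mk₀ d) hs.extClass y (zero_add 1) (add_comm 1 n) (show 0 + 1 + n = n + 1 by omega)).symm.trans ?_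
  refine (congrArg (fun v => v.comp y (add_comm 1 n)) h).symm.trans ?_
  exact Ext.comp_assoc hs'.extClass (Ext.mk₀ a) y (add_zero 1) (zero_add n) (show 1 + 0 + n = n + 1 by omega)

end Square

variable {S : Scheme.{u}} {X : AlgSp.Space S} (E₀ : EtOver X.obj)

/-- An open of the chart as a scheme over the base. -/
abbrev openOver (O : E₀.obj.left.left.Opens) : Over S := Over.mk (O.ι ≫ E₀.obj.left.hom)

/-- An open of the chart as a space etale over `X`. -/
def opn (O : E₀.obj.left.left.Opens) : EtSpOver X :=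
  ⟨Over.mk (ObjectProperty.homMk (openObj E₀ O).obj.hom : (AlgSp.ofScheme S).obj (openOver E₀ O) ⟶ X), fun U' φ hφ => by
    obtain ⟨k, rfl⟩ := (yon S).map_surjective φ
    exact Groth.AlgSpBasic.repWith_comp hφ (openObj E₀ O).property⟩

variable {E₀}

/-- The inclusion of opens. -/
def inclOver {O O' : E₀.obj.left.left.Opens} (h : O ≤ O') : openOver E₀ O ⟶ openOver E₀ O' :=
  Over.homMk (E₀.obj.left.left.homOfLE h) (by simp)

/-- The inclusion of opens on the site. -/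
def objMap {O O' : E₀.obj.left.left.Opens} (h : O ≤ O') : openObj E₀ O ⟶ openObj E₀ O' :=
  EtOver.homMk (inclOver h) (by
    show (yon S).map _ ≫ (yon S).map _ ≫ E₀.obj.hom = (yon S).map _ ≫ E₀.obj.hom
    rw [← Category.assoc, ← Functor.map_comp]
    congr 2
    exact Over.OverMorphism.ext (E₀.obj.left.left.homOfLE_ι h))

/-- The inclusion of opens as spaces. -/
def opnMap {O O' : E₀.obj.left.left.Opens} (h : O ≤ O') : opn E₀ O ⟶ opn E₀ O' :=
  ObjectProperty.homMk (Over.homMk ((AlgSp.ofScheme S).map (inclOver h)) (ObjectProperty.hom_ext _ (EtOver.w (objMap h))))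

theorem opnMap_comp {O O' O'' : E₀.obj.left.left.Opens} (h : O ≤ O') (h' : O' ≤ O'') :
    opnMap h ≫ opnMap h' = opnMap (h.trans h') := by
  refine ObjectProperty.hom_ext _ (Over.OverMorphism.ext (ObjectProperty.hom_ext _ ?_))
  show (yon S).map (inclOver h) ≫ (yon S).map (inclOver h') = (yon S).map (inclOver (h.trans h'))
  rw [← Functor.map_comp]
  congr 1
  exact Over.OverMorphism.ext (E₀.obj.left.left.homOfLE_homOfLE h h')

theorem objMap_comp {O O' O'' : E₀.obj.left.left.Opens} (h : O ≤ O') (h' : O' ≤ O'') :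
    objMap h ≫ objMap h' = objMap (h.trans h') :=
  EtOver.hom_ext _ _ (Over.OverMorphism.ext (E₀.obj.left.left.homOfLE_homOfLE h h'))

theorem objMap_openHom {O O' : E₀.obj.left.left.Opens} (h : O ≤ O') :
    objMap h ≫ openHom E₀ O' = openHom E₀ O :=
  EtOver.hom_ext _ _ (Over.OverMorphism.ext (E₀.obj.left.left.homOfLE_ι h))

theorem hMap_comp {W W' W'' : EtSpOver X} (f : W ⟶ W') (g : W' ⟶ W'') : hMap (f ≫ g) = hMap f ≫ hMap g :=
  NatTrans.ext (funext fun _ => ConcreteCategory.hom_ext _ _ fun s => Subtype.ext (Category.assoc s.1 _ _).symm)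

/-- The map of free sheaves. -/
abbrev frMap {W W' : EtSpOver X} (f : W ⟶ W') : freeH W ⟶ freeH W' := (freeSh X).map (hMap f)

theorem frMap_comp {W W' W'' : EtSpOver X} (f : W ⟶ W') (g : W' ⟶ W'') : frMap (f ≫ g) = frMap f ≫ frMap g := by
  rw [frMap, hMap_comp, Functor.map_comp]

variable (F : AbEt X.obj)

/-- Cohomology on an open of the chart. -/
abbrev Hop (O : E₀.obj.left.left.Opens) (q : ℕ) : Type (u + 1) := Ext (freeH (opn E₀ O)) F q

/-- Restriction. -/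
def res {O O' : E₀.obj.left.left.Opens} (h : O ≤ O') (q : ℕ) : Hop F O' q →+ Hop F O q :=
  (Ext.mk₀ (frMap (opnMap h))).precomp F (zero_add q)

theorem res_apply {O O' : E₀.obj.left.left.Opens} (h : O ≤ O') {q : ℕ} (x : Hop F O' q) :
    res F h q x = (Ext.mk₀ (frMap (opnMap h))).comp x (zero_add q) := rfl

theorem res_res {O O' O'' : E₀.obj.left.left.Opens} (h : O ≤ O') (h' : O' ≤ O'') {q : ℕ} (x : Hop F O'' q) :
    res F h q (res F h' q x) = res F (h.trans h') q x := by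
  rw [res_apply, res_apply, res_apply, Ext.mk₀_comp_mk₀_assoc, ← frMap_comp, opnMap_comp]

variable (E₀)

theorem subsingleton_Hop (O : E₀.obj.left.left.Opens) (hO : IsAffineOpen O) (hF : CechAcyclic F.obj) (q : ℕ) :
    Subsingleton (Hop F O (q + 1)) :=
  haveI : IsAffine (openOver E₀ O).left := hO
  subsingleton_ext_of_affine (W := opn E₀ O) (openOver E₀ O) (Iso.refl _) q F hF

variable {E₀}

/-- The union and intersection of two opens form an elementary square. -/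
theorem isElemDistSq_sup (O₁ O₂ : E₀.obj.left.left.Opens) :
    IsElemDistSq (opnMap (le_sup_left : O₁ ≤ O₁ ⊔ O₂)).hom.left.hom (opnMap (le_sup_right : O₂ ≤ O₁ ⊔ O₂)).hom.left.hom := by
  let Z := E₀.obj.left.left
  have hi : ∀ {A B : Z.Opens} (h : A ≤ B), RepWith @IsOpenImmersion ((yon S).map (inclOver h)) := fun {A B} h =>
    (repWith_yon_map_iff _ _).2 (inferInstanceAs (IsOpenImmersion (Z.homOfLE h)))
  refine Groth.AlgSp2.Induction.isElemDistSq_of_uniqueOver (IsAlgSpace.yon_obj _) (hi _)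
    (g := (yon S).map (inclOver (le_sup_right : O₂ ≤ O₁ ⊔ O₂))) ?_ ?_ ?_
  · exact Groth.AlgSpBasic.repWith_mono (fun _ _ g (_ : IsOpenImmersion g) => (inferInstance : Etale g)) (hi _)
  · intro T v v' e _
    haveI : Mono (inclOver (le_sup_right : O₂ ≤ O₁ ⊔ O₂)).left := inferInstanceAs (Mono (Z.homOfLE (le_sup_right : O₂ ≤ O₁ ⊔ O₂)))
    haveI : Mono (inclOver (le_sup_right : O₂ ≤ O₁ ⊔ O₂)) := (Over.forget S).mono_of_mono_map ‹_›
    have e' : v ≫ inclOver (le_sup_right : O₂ ≤ O₁ ⊔ O₂) = v' ≫ inclOver (le_sup_right : O₂ ≤ O₁ ⊔ O₂) :=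
      (yon S).map_injective (((yon S).map_comp _ _).trans (e.trans ((yon S).map_comp _ _).symm))
    exact (cancel_mono (inclOver (le_sup_right : O₂ ≤ O₁ ⊔ O₂))).1 e'
  · intro y hy
    obtain ⟨z, rfl⟩ := (AlgSp.Points.schemeEquiv (openOver E₀ (O₁ ⊔ O₂))).surjective y
    have key : ∀ (A : Z.Opens) (h : A ≤ O₁ ⊔ O₂) (w : ↥A), Z.homOfLE h w = z →
        AlgSp.Points.ofPt ((yon S).map (inclOver h)) w = AlgSp.Points.ofScheme (openOver E₀ (O₁ ⊔ O₂)) z := by
      intro A h w hw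
      rw [← Category.comp_id ((yon S).map (inclOver h))]
      exact (Groth.AlgSpBasic.ofPt_comp_yon (inclOver h) (𝟙 _) w).trans (congrArg (AlgSp.Points.ofScheme _) hw)
    rcases (TopologicalSpace.Opens.mem_sup.1 z.2) with h1 | h2
    · refine absurd ⟨AlgSp.Points.ofScheme (openOver E₀ O₁) ⟨z.1, h1⟩, ?_⟩ hy
      refine (Groth.AlgSpBasic.ofPt_eq_map _ _).symm.trans ?_
      exact key O₁ le_sup_left ⟨z.1, h1⟩ (Subtype.ext (Scheme.homOfLE_apply _ _))
    · exact ⟨⟨z.1, h2⟩, key O₂ le_sup_right ⟨z.1, h2⟩ (Subtype.ext (Scheme.homOfLE_apply _ _))⟩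

theorem isPullback_sup (O₁ O₂ : E₀.obj.left.left.Opens) :
    IsPullback (opnMap (inf_le_left : O₁ ⊓ O₂ ≤ O₁)).hom.left.hom (opnMap (inf_le_right : O₁ ⊓ O₂ ≤ O₂)).hom.left.hom
      (opnMap (le_sup_left : O₁ ≤ O₁ ⊔ O₂)).hom.left.hom (opnMap (le_sup_right : O₂ ≤ O₁ ⊔ O₂)).hom.left.hom := by
  have h0 : IsPullback (inclOver (inf_le_left : O₁ ⊓ O₂ ≤ O₁)) (inclOver (inf_le_right : O₁ ⊓ O₂ ≤ O₂))
      (inclOver (le_sup_left : O₁ ≤ O₁ ⊔ O₂)) (inclOver (le_sup_right : O₂ ≤ O₁ ⊔ O₂)) :=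
    IsPullback.of_map (Over.forget S) (Over.OverMorphism.ext (isPullback_opens_inf_le le_sup_left le_sup_right).w)
      (isPullback_opens_inf_le le_sup_left le_sup_right)
  exact h0.map (yon S)

/-- The Mayer-Vietoris sequence. -/
theorem mv (O₁ O₂ : E₀.obj.left.left.Opens) :
    (isPushout_free (isElemDistSq_sup O₁ O₂) (isPullback_sup O₁ O₂)).shortComplex.ShortExact :=
  shortExact_free (isElemDistSq_sup O₁ O₂) (isPullback_sup O₁ O₂)

theorem mv_zero (O₁ O₂ : E₀.obj.left.left.Opens) :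
    biprod.lift (frMap (opnMap (inf_le_left : O₁ ⊓ O₂ ≤ O₁))) (-frMap (opnMap (inf_le_right : O₁ ⊓ O₂ ≤ O₂))) ≫
      biprod.desc (frMap (opnMap (le_sup_left : O₁ ≤ O₁ ⊔ O₂))) (frMap (opnMap (le_sup_right : O₂ ≤ O₁ ⊔ O₂))) = 0 :=
  (isPushout_free (isElemDistSq_sup O₁ O₂) (isPullback_sup O₁ O₂)).shortComplex.zero

/-- The connecting map. -/
def δ (O₁ O₂ : E₀.obj.left.left.Opens) (q : ℕ) : Hop F (O₁ ⊓ O₂) q →+ Hop F (O₁ ⊔ O₂) (q + 1) :=
  sqδ (mv_zero O₁ O₂) (mv O₁ O₂) F q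

theorem exists_δ_eq (O₁ O₂ : E₀.obj.left.left.Opens) {q : ℕ} (x : Hop F (O₁ ⊔ O₂) (q + 1))
    (h₁ : res F (le_sup_left : O₁ ≤ O₁ ⊔ O₂) _ x = 0) (h₂ : res F (le_sup_right : O₂ ≤ O₁ ⊔ O₂) _ x = 0) :
    ∃ y, δ F O₁ O₂ q y = x :=
  exists_sqδ_eq (mv_zero O₁ O₂) (mv O₁ O₂) F x h₁ h₂

theorem δ_res_left (O₁ O₂ : E₀.obj.left.left.Opens) {q : ℕ} (y : Hop F O₁ q) :
    δ F O₁ O₂ q (res F (inf_le_left : O₁ ⊓ O₂ ≤ O₁) q y) = 0 :=
  sqδ_left (mv_zero O₁ O₂) (mv O₁ O₂) F y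

theorem δ_res_right (O₁ O₂ : E₀.obj.left.left.Opens) {q : ℕ} (y : Hop F O₂ q) :
    δ F O₁ O₂ q (res F (inf_le_right : O₁ ⊓ O₂ ≤ O₂) q y) = 0 :=
  sqδ_right (mv_zero O₁ O₂) (mv O₁ O₂) F y

theorem frMap_square {A B C D : E₀.obj.left.left.Opens} (h₁ : A ≤ B) (h₂ : B ≤ D) (h₃ : A ≤ C) (h₄ : C ≤ D) :
    frMap (opnMap h₁) ≫ frMap (opnMap h₂) = frMap (opnMap h₃) ≫ frMap (opnMap h₄) := by
  rw [← frMap_comp, ← frMap_comp, opnMap_comp, opnMap_comp]

/-- The connecting map is natural. -/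
theorem res_δ {O₁ O₂ P₁ P₂ : E₀.obj.left.left.Opens} (h₁ : P₁ ≤ O₁) (h₂ : P₂ ≤ O₂) {q : ℕ} (y : Hop F (O₁ ⊓ O₂) q) :
    res F (sup_le_sup h₁ h₂) _ (δ F O₁ O₂ q y) = δ F P₁ P₂ q (res F (inf_le_inf h₁ h₂) q y) :=
  sqδ_natural (mv_zero O₁ O₂) (mv O₁ O₂) F (mv_zero P₁ P₂) (mv P₁ P₂) (frMap (opnMap (inf_le_inf h₁ h₂))) (frMap (opnMap h₁)) (frMap (opnMap h₂))
    (frMap (opnMap (sup_le_sup h₁ h₂))) (frMap_square _ _ _ _) (frMap_square _ _ _ _) (frMap_square _ _ _ _)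
    (frMap_square _ _ _ _) y

/-- The universal map into an open. -/
def univSec (O : E₀.obj.left.left.Opens) : hSec (opn E₀ O) (openObj E₀ O) := ⟨𝟙 _, Category.id_comp _⟩

/-- A map out of a free sheaf at the universal map. -/
def homEv (O : E₀.obj.left.left.Opens) (φ : freeH (opn E₀ O) ⟶ F) : F.obj.obj (op (openObj E₀ O)) :=
  ((freeShAdj X).homEquiv (hPre (opn E₀ O)) F φ).app (op (openObj E₀ O)) (univSec O)

theorem homEv_add (O : E₀.obj.left.left.Opens) (φ ψ : freeH (opn E₀ O) ⟶ F) :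
    homEv F O (φ + ψ) = homEv F O φ + homEv F O ψ := by
  rw [homEv, homEv, homEv, Adjunction.homEquiv_unit, Adjunction.homEquiv_unit, Adjunction.homEquiv_unit]
  rfl

theorem exists_fac_univSec (O : E₀.obj.left.left.Opens) {E : EtOver X.obj} (s : hSec (opn E₀ O) E) :
    ∃ γ : E ⟶ openObj E₀ O, hres γ (univSec O) = s := by
  obtain ⟨k, hk⟩ := (yon S).map_surjective s.1
  refine ⟨EtOver.homMk k ?_, Subtype.ext ((Category.comp_id _).trans hk)⟩
  show (yon S).map k ≫ _ = _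
  rw [hk]
  exact s.2

theorem fac_univSec_unique (O : E₀.obj.left.left.Opens) {E : EtOver X.obj} (γ γ' : E ⟶ openObj E₀ O)
    (h : hres γ (univSec O) = hres γ' (univSec O)) : γ = γ' :=
  EtOver.hom_ext _ _ ((yon S).map_injective ((Category.comp_id _).symm.trans
    ((congrArg Subtype.val h).trans (Category.comp_id _))))

theorem homEv_injective (O : E₀.obj.left.left.Opens) : Function.Injective (homEv F O) := fun φ ψ h => by
  refine ((freeShAdj X).homEquiv _ _).injective (NatTrans.ext (funext fun E => ConcreteCategory.hom_ext _ _ fun s => ?_))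
  obtain ⟨γ, rfl⟩ := exists_fac_univSec O (E := E.unop) s
  refine (Groth.EtVan.nat_apply (F := underlying F) ((freeShAdj X).homEquiv (hPre (opn E₀ O)) F φ) γ (univSec O)).symm.trans ?_
  refine Eq.trans ?_ (Groth.EtVan.nat_apply (F := underlying F) ((freeShAdj X).homEquiv (hPre (opn E₀ O)) F ψ) γ (univSec O))
  exact congrArg (F.obj.map γ.op) h

theorem homEv_surjective (O : E₀.obj.left.left.Opens) : Function.Surjective (homEv F O) := fun t => by
  choose γ hγ using fun (E : (EtOver X.obj)ᵒᵖ) (s : hSec (opn E₀ O) E.unop) => exists_fac_univSec O s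
  let a : hPre (opn E₀ O) ⟶ (underlying F).obj :=
    { app := fun E => ↾ fun s => F.obj.map (γ E s).op t
      naturality := fun E E' g => ConcreteCategory.hom_ext _ _ fun s => by
        refine Eq.trans ?_ (Groth.EtVan.map_map' (F := underlying F) g.unop (γ E s) t).symm
        show F.obj.map (γ E' (hres g.unop s)).op t = F.obj.map (g.unop ≫ γ E s).op t
        rw [fac_univSec_unique O (γ E' (hres g.unop s)) (g.unop ≫ γ E s) (by rw [hγ, ← hres_hres, hγ])] }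
  refine ⟨((freeShAdj X).homEquiv (hPre (opn E₀ O)) F).symm a, ?_⟩
  refine (congrArg (fun b : hPre (opn E₀ O) ⟶ (underlying F).obj => b.app (op (openObj E₀ O)) (univSec O))
    (((freeShAdj X).homEquiv (hPre (opn E₀ O)) F).apply_symm_apply a)).trans ?_
  show F.obj.map (γ (op (openObj E₀ O)) (univSec O)).op t = t
  rw [fac_univSec_unique O (γ (op (openObj E₀ O)) (univSec O)) (𝟙 _) ((hγ _ _).trans (Subtype.ext (by
    show 𝟙 _ = (yon S).map (𝟙 _) ≫ 𝟙 _
    rw [CategoryTheory.Functor.map_id, Category.id_comp])))]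
  exact ConcreteCategory.congr_hom (F.obj.map_id _) t

theorem homEv_frMap {O O' : E₀.obj.left.left.Opens} (h : O ≤ O') (φ : freeH (opn E₀ O') ⟶ F) :
    homEv F O (frMap (opnMap h) ≫ φ) = F.obj.map (objMap h).op (homEv F O' φ) := by
  refine (congrArg (fun b : hPre (opn E₀ O) ⟶ (underlying F).obj => b.app (op (openObj E₀ O)) (univSec O))
    ((freeShAdj X).homEquiv_naturality_left (hMap (opnMap h)) φ)).trans ?_
  refine Eq.trans ?_ (Groth.EtVan.nat_apply (F := underlying F) ((freeShAdj X).homEquiv (hPre (opn E₀ O')) F φ)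
    (objMap h) (univSec O')).symm
  show ((freeShAdj X).homEquiv (hPre (opn E₀ O')) F φ).app (op (openObj E₀ O)) (hpush (opnMap h) (univSec O)) = _
  exact congrArg _ (Subtype.ext ((Category.id_comp _).trans (Category.comp_id _).symm))

/-- Degree zero cohomology is the group of sections. -/
def ev₀ (O : E₀.obj.left.left.Opens) : Hop F O 0 →+ F.obj.obj (op (openObj E₀ O)) :=
  AddMonoidHom.mk' (fun x => homEv F O (Ext.addEquiv₀ x)) fun x y => by rw [map_add, homEv_add]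

theorem bijective_ev₀ (O : E₀.obj.left.left.Opens) : Function.Bijective (ev₀ F O) :=
  Function.Bijective.comp (g := homEv F O) ⟨homEv_injective F O, homEv_surjective F O⟩
    (Ext.addEquiv₀ (X := freeH (opn E₀ O)) (Y := F)).bijective

theorem ev₀_res {O O' : E₀.obj.left.left.Opens} (h : O ≤ O') (x : Hop F O' 0) :
    ev₀ F O (res F h 0 x) = F.obj.map (objMap h).op (ev₀ F O' x) := by
  obtain ⟨φ, rfl⟩ := Ext.addEquiv₀.symm.surjective x
  have e : Ext.addEquiv₀ (res F h 0 (Ext.addEquiv₀.symm φ)) = frMap (opnMap h) ≫ φ :=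
    Ext.addEquiv₀.symm.injective ((Ext.addEquiv₀.symm_apply_apply _).trans (Ext.mk₀_comp_mk₀ (frMap (opnMap h)) φ).symm.symm)
  refine (congrArg (homEv F O) e).trans ((homEv_frMap F h φ).trans ?_)
  exact congrArg (fun v => F.obj.map (objMap h).op (homEv F O' v)) (AddEquiv.apply_symm_apply _ φ).symm

end Groth.ModEtQCoh.DimVanish
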