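import Groth.Agent.ModEtQCoh.DimVanish.Opens
import Groth.Agent.ModEtQCoh.DimVanish.Alg
import Groth.Agent.ModEtQCoh.Vanish.QCoh
import Mathlib.RingTheory.TensorProduct.Basic

/-!
# Sections on basic opens of an affine chart of bounded dimension

In dimension `< n`, a section on the intersection of `n` basic opens is a sum of sections defined on the
intersections of `n - 1` of them.
-/

set_option autoImplicit false
set_option backward.isDefEq.respectTransparency.types false
set_option linter.style.haveILetI false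
set_option maxHeartbeats 800000
universe u

open CategoryTheory CategoryTheory.Limits AlgebraicGeometry Opposite AlgSp Groth.ModEtQCoh Abelian Groth.EtVan
  Groth.FlatMor2.AlgSpColim TensorProduct

noncomputable section

namespace Groth.ModEtQCoh.DimVanish

variable {S : Scheme.{u}} {X : AlgSp.Space S} {E₀ : EtOver X.obj}

theorem opnMap_refl (O : E₀.obj.left.left.Opens) : opnMap (le_refl O) = 𝟙 (opn E₀ O) := by
  refine ObjectProperty.hom_ext _ (Over.OverMorphism.ext (ObjectProperty.hom_ext _ ?_))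
  show (yon S).map (inclOver (le_refl O)) = 𝟙 _
  rw [show inclOver (le_refl O) = 𝟙 _ from Over.OverMorphism.ext (E₀.obj.left.left.homOfLE_rfl O)]
  exact (yon S).map_id _

theorem hMap_id (W : EtSpOver X) : hMap (𝟙 W) = 𝟙 (hPre W) :=
  NatTrans.ext (funext fun _ => ConcreteCategory.hom_ext _ _ fun s => Subtype.ext (Category.comp_id s.1))

theorem res_refl (F : AbEt X.obj) {O O' : E₀.obj.left.left.Opens} (h : O ≤ O') (h' : O' ≤ O) {q : ℕ} (x : Hop F O q) :
    res F h q (res F h' q x) = x := by
  rw [res_res]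
  show (Ext.mk₀ (frMap (opnMap (h.trans h')))).comp x (zero_add q) = x
  rw [show frMap (opnMap (h.trans h')) = 𝟙 _ by rw [frMap, opnMap_refl, hMap_id, CategoryTheory.Functor.map_id]]
  exact Ext.mk₀_id_comp x

variable [IsAffine E₀.obj.left.left]

/-- A basic open of the chart. -/
abbrev D (a : fnA E₀) : E₀.obj.left.left.Opens := E₀.obj.left.left.basicOpen a

theorem isAffineOpen_D (a : fnA E₀) : IsAffineOpen (D a) := (isAffineOpen_top E₀.obj.left.left).basicOpen a

omit [IsAffine E₀.obj.left.left] in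
theorem D_mul (a b : fnA E₀) : D (a * b) = D a ⊓ D b := Scheme.basicOpen_mul _ a b

/-- A union of basic opens, inside a basic open. -/
def un {n : ℕ} (f : Fin n → fnA E₀) (h : fnA E₀) : E₀.obj.left.left.Opens := ⨆ i, D (h * f i)

omit [IsAffine E₀.obj.left.left] in
theorem un_succ {n : ℕ} (f : Fin (n + 1) → fnA E₀) (h : fnA E₀) :
    un f h = un (fun i => f i.castSucc) h ⊔ D (h * f (Fin.last n)) := by
  refine le_antisymm (iSup_le fun i => ?_) (sup_le (iSup_le fun i => le_iSup (fun j => D (h * f j)) i.castSucc)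
    (le_iSup (fun j => D (h * f j)) (Fin.last n)))
  induction i using Fin.lastCases with
  | last => exact le_sup_right
  | cast i => exact le_trans (le_iSup (fun j : Fin n => D (h * f j.castSucc)) i) le_sup_left

omit [IsAffine E₀.obj.left.left] in
theorem un_inf {n : ℕ} (f : Fin n → fnA E₀) (h a : fnA E₀) : un f h ⊓ D (h * a) = un f (h * a) := by
  rw [un, un, iSup_inf_eq]
  refine iSup_congr fun i => ?_
  simp only [D_mul]
  ac_rfl

omit [IsAffine E₀.obj.left.left] in
theorem un_mono {n : ℕ} (f : Fin n → fnA E₀) {h g : fnA E₀} (hg : D h ≤ D g) : un f h ≤ un f g :=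
  iSup_mono fun i => by rw [D_mul, D_mul]; exact inf_le_inf_right _ hg

omit [IsAffine E₀.obj.left.left] in
theorem un_le {n : ℕ} (f : Fin n → fnA E₀) (h : fnA E₀) : un f h ≤ D h :=
  iSup_le fun i => by rw [D_mul]; exact inf_le_left

omit [IsAffine E₀.obj.left.left] in
theorem un_one (f : Fin 1 → fnA E₀) (h : fnA E₀) : un f h = D (h * ∏ i, f i) := by
  rw [un, ciSup_unique, Fin.prod_univ_one]
  rfl

variable (M : ModEt X.obj) [M.IsQuasicoherent]

/-- The sections of the module on an open. -/
abbrev sec (O : E₀.obj.left.left.Opens) : Type (u + 1) := sectModEt M (openObj E₀ O)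

/-- Restriction of sections. -/
def rs {O O' : E₀.obj.left.left.Opens} (h : O ≤ O') : sec M O' →+ sec M O := (resM M (objMap h)).toAddMonoidHom

/-- The sheaf of the module. -/
abbrev shf : AbEt X.obj := (toAbEt X.obj).obj M

theorem cechAcyclic_shf : CechAcyclic (shf M).obj := cechAcyclic_toAbEt M

omit [IsAffine E₀.obj.left.left] [M.IsQuasicoherent] in
theorem rs_rs {O O' O'' : E₀.obj.left.left.Opens} (h : O ≤ O') (h' : O' ≤ O'') (x : sec M O'') :
    rs M h (rs M h' x) = rs M (h.trans h') x := by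
  show resM M (objMap h) (resM M (objMap h') x) = resM M (objMap (h.trans h')) x
  rw [← resM_comp, objMap_comp]

omit [IsAffine E₀.obj.left.left] in
theorem topIso_inv_res (a : fnA E₀) (r : fnA E₀) :
    (D a).topIso.inv.hom ((E₀.obj.left.left.presheaf.map (homOfLE (E₀.obj.left.left.basicOpen_le a)).op).hom r) =
      resA (openHom E₀ (D a)) r := by
  show (D a).topIso.inv.hom _ = (D a).ι.appTop r
  simp only [Scheme.Opens.ι_appTop, Scheme.Opens.topIso_inv]
  exact ConcreteCategory.congr_hom ((E₀.obj.left.left.presheaf.map_comp _ _).symm.trans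
    (congrArg E₀.obj.left.left.presheaf.map (Subsingleton.elim _ _))) r

omit [IsAffine E₀.obj.left.left] in
theorem isUnit_resA_D (a : fnA E₀) {O : E₀.obj.left.left.Opens} (h : O ≤ D a) : IsUnit (resA (openHom E₀ O) a) := by
  rw [← objMap_openHom h, resA_comp]
  refine IsUnit.map (resA (objMap h)) ?_
  rw [← topIso_inv_res a a]
  exact IsUnit.map (D a).topIso.inv.hom (E₀.obj.left.left.toRingedSpace.isUnit_res_basicOpen a)

theorem isLocalization_away_resA (a : fnA E₀) :
    @IsLocalization.Away _ _ a (fnA (openObj E₀ (D a))) _ (resA (openHom E₀ (D a))).toAlgebra := by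
  let Z := E₀.obj.left.left
  letI := (Z.presheaf.map (homOfLE (Z.basicOpen_le a)).op).hom.toAlgebra
  letI := (resA (openHom E₀ (D a))).toAlgebra
  haveI : IsLocalization.Away a Γ(Z, Z.basicOpen a) := (isAffineOpen_top Z).isLocalization_basicOpen a
  let e : Γ(Z, Z.basicOpen a) ≃+* fnA (openObj E₀ (D a)) := (D a).topIso.commRingCatIsoToRingEquiv.symm
  have hc : ∀ r : Γ(Z, ⊤), e ((Z.presheaf.map (homOfLE (Z.basicOpen_le a)).op).hom r) = resA (openHom E₀ (D a)) r :=
    fun r => topIso_inv_res a r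
  exact IsLocalization.isLocalization_of_algEquiv (Submonoid.powers a) (AlgEquiv.ofRingEquiv (f := e) hc)

/-- Sections on a basic open are fractions. -/
theorem exists_pow_smul (a : fnA E₀) (s : sec M (D a)) :
    ∃ (k : ℕ) (m : sectModEt M E₀), resA (openHom E₀ (D a)) a ^ k • s = resM M (openHom E₀ (D a)) m := by
  haveI : IsAffine (openObj E₀ (D a)).obj.left.left := isAffineOpen_D a
  obtain ⟨z, rfl⟩ := (isBC_resM M (openHom E₀ (D a))).2 s
  letI := (resA (openHom E₀ (D a))).toAlgebra
  haveI : IsLocalization.Away a (fnA (openObj E₀ (D a))) := isLocalization_away_resA a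
  induction z using TensorProduct.induction_on with
  | zero => exact ⟨0, 0, by rw [map_zero, smul_zero, map_zero]⟩
  | tmul b n =>
    obtain ⟨⟨c, _, k, rfl⟩, hb⟩ := IsLocalization.surj (Submonoid.powers a) b
    refine ⟨k, c • n, ?_⟩
    rw [LinearMap.map_smulₛₗ]
    refine Eq.trans ?_ (congrArg (fun r => r • resM M (openHom E₀ (D a)) n) hb)
    rw [bcLift_tmul, smul_smul]
    congr 1
    show resA (openHom E₀ (D a)) a ^ k * b = b * resA (openHom E₀ (D a)) (a ^ k)
    rw [map_pow, mul_comm]
  | add z₁ z₂ h₁ h₂ =>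
    obtain ⟨k₁, m₁, e₁⟩ := h₁
    obtain ⟨k₂, m₂, e₂⟩ := h₂
    refine ⟨k₁ + k₂, a ^ k₂ • m₁ + a ^ k₁ • m₂, ?_⟩
    rw [map_add, map_add, LinearMap.map_smulₛₗ, LinearMap.map_smulₛₗ, map_pow, map_pow, smul_add, ← e₁, ← e₂,
      smul_smul, smul_smul, ← pow_add, ← pow_add, add_comm k₂ k₁]

/-- Sections on the common intersection of `n` basic opens in dimension `< n`. -/
theorem mem_iSup_range {n : ℕ} (hdim : ∀ l : LTSeries (PrimeSpectrum (fnA E₀)), l.length < n) (f : Fin n → fnA E₀)
    (hle : ∀ i, D (∏ j, f j) ≤ D (∏ j ∈ Finset.univ.erase i, f j)) (s : sec M (D (∏ i, f i))) :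
    s ∈ ⨆ i, (rs M (hle i)).range := by
  classical
  let p := ∏ i, f i
  let O := D p
  let r := resA (openHom E₀ O)
  obtain ⟨k, m, hk⟩ := exists_pow_smul M p s
  obtain ⟨N, hN⟩ := exists_prod_pow_mem_pow hdim f k
  obtain ⟨c, hc⟩ := (Ideal.mem_span_range_iff_exists_fun).1 hN
  let pe := fun i => ∏ j ∈ Finset.univ.erase i, f j
  let t : ∀ i, sec M (D (pe i)) := fun i =>
    ↑((isUnit_resA_D (pe i) (le_refl _)).pow (N + k)).unit⁻¹ • resM M (openHom E₀ (D (pe i))) (c i • m)
  have ht : ∀ i, r p ^ (N + k) • rs M (hle i) (t i) = resM M (openHom E₀ O) (f i ^ (N + k) • c i • m) := fun i => by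
    have h0 : resA (openHom E₀ (D (pe i))) (pe i) ^ (N + k) • t i = resM M (openHom E₀ (D (pe i))) (c i • m) := by
      refine (smul_smul _ _ _).trans ?_
      rw [IsUnit.mul_val_inv, one_smul]
    have h1 := congrArg (resM M (objMap (hle i))) h0
    rw [LinearMap.map_smulₛₗ, map_pow, ← resM_comp, objMap_openHom] at h1
    have e : resA (objMap (hle i)) (resA (openHom E₀ (D (pe i))) (pe i)) = r (pe i) := by
      rw [← RingHom.comp_apply, ← resA_comp, objMap_openHom]
    rw [e] at h1
    have ep : p = f i * pe i := (Finset.mul_prod_erase _ _ (Finset.mem_univ i)).symm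
    rw [ep, map_mul, mul_pow, ← smul_smul, LinearMap.map_smulₛₗ, map_pow]
    exact congrArg (r (f i) ^ (N + k) • ·) h1
  have key : s = ∑ i, rs M (hle i) (t i) := by
    refine ((isUnit_resA_D p (le_refl O)).pow (N + k)).smul_left_cancel.1 ?_
    rw [Finset.smul_sum]
    refine Eq.trans ?_ (Finset.sum_congr rfl fun i _ => (ht i).symm)
    rw [pow_add, ← smul_smul, hk, ← map_pow, ← LinearMap.map_smulₛₗ, ← map_sum]
    refine congrArg _ ?_
    rw [← hc, Finset.sum_smul]
    exact Finset.sum_congr rfl fun i _ => by rw [smul_smul, mul_comm]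
  rw [key]
  exact sum_mem fun i _ => AddSubgroup.mem_iSup_of_mem i ⟨t i, rfl⟩

end Groth.ModEtQCoh.DimVanish
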